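import Groth.Agent.L15.Galois.Hom
import Groth.Prelude.Def_CartDual2
import Groth.Prelude.Def_AlphaP
import Mathlib.RingTheory.HopfAlgebra.MonoidAlgebra
import Mathlib.FieldTheory.Finite.Basic
import Mathlib.Algebra.CharP.Lemmas
import Mathlib.RingTheory.Idempotents
import Mathlib.Data.Nat.Prime.Factorial

/-!
# Quotients isomorphic to `μ_p` or `α_p` from primitive elements of the dual
-/

set_option autoImplicit false

universe u v

open TensorProduct CartDual Groth.L15.Galois

noncomputable section

namespace Groth.L15.RankP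

variable {k : Type u} [Field k] {A : Type v} [CommRing A] [HopfAlgebra k A] [Module.Finite k A]

/-- primitive elements of the dual, i.e. derivations at the unit point -/
def IsPrim (x : D k A) : Prop := Coalgebra.comul (R := k) x = x ⊗ₜ 1 + 1 ⊗ₜ x

theorem isPrim_iff (x : D k A) :
    IsPrim x ↔ ∀ a b, x (a * b) = x a * Coalgebra.counit (R := k) b + Coalgebra.counit (R := k) a * x b := by
  refine ⟨fun h a b => ?_, fun h => (ev₂ k A).injective (TensorProduct.ext' fun a b => ?_)⟩
  · have := congrArg (fun z => ev₂ k A z (a ⊗ₜ b)) h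
    simpa [LinearMap.convOne_apply, coe_apply] using this
  · simp [h, LinearMap.convOne_apply, coe_apply]

theorem IsPrim.apply_one {x : D k A} (hx : IsPrim x) : x 1 = 0 := by
  have h := (isPrim_iff x).mp hx 1 1
  rw [_root_.mul_one, Bialgebra.counit_one, _root_.mul_one, _root_.one_mul] at h
  simpa using h

theorem hit_mul {x : D k A} (hx : IsPrim x) (a b : A) :
    hit x.ofConv (a * b) = a * hit x.ofConv b + b * hit x.ofConv a := by
  have key : ∀ y z : A ⊗[k] A, TensorProduct.rid k A (x.ofConv.lTensor A (y * z)) =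
      TensorProduct.rid k A ((Coalgebra.counit (R := k) (A := A)).lTensor A y) * TensorProduct.rid k A (x.ofConv.lTensor A z) +
      TensorProduct.rid k A ((Coalgebra.counit (R := k) (A := A)).lTensor A z) * TensorProduct.rid k A (x.ofConv.lTensor A y) := by
    intro y z
    induction y using TensorProduct.induction_on with
    | zero => simp
    | add p q hp hq => simp only [add_mul, map_add, mul_add, hp, hq]; abel
    | tmul p q =>
      induction z using TensorProduct.induction_on with
      | zero => simp
      | add r s hr hs => simp only [mul_add, map_add, add_mul, hr, hs]; abel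
      | tmul r s =>
        simp only [Algebra.TensorProduct.tmul_mul_tmul, LinearMap.lTensor_tmul, rid_tmul]
        rw [show x.ofConv (q * s) = x q * Coalgebra.counit (R := k) s + Coalgebra.counit (R := k) q * x s from
          (isPrim_iff x).mp hx q s, add_smul, smul_mul_smul_comm, smul_mul_smul_comm, mul_comm r p,
          mul_comm (Coalgebra.counit (R := k) s) (x.ofConv q)]
        exact add_comm _ _
  rw [hit_apply, Bialgebra.comul_mul, key, Coalgebra.lTensor_counit_comul, Coalgebra.lTensor_counit_comul]
  simp [hit_apply]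

theorem hit_pow {x : D k A} (hx : IsPrim x) (a : A) (n : ℕ) :
    hit x.ofConv (a ^ (n + 1)) = (n + 1 : ℕ) • (a ^ n * hit x.ofConv a) := by
  induction n with
  | zero => simp
  | succ n ih => rw [pow_succ a (n + 1), hit_mul hx, ih]; push_cast [nsmul_eq_mul]; ring

omit [Module.Finite k A] in
theorem counit_hit (x : D k A) (a : A) : Coalgebra.counit (R := k) (hit x.ofConv a) = x a := by
  have key : ∀ z : A ⊗[k] A, Coalgebra.counit (R := k) (TensorProduct.rid k A (x.ofConv.lTensor A z)) =
      x (TensorProduct.lid k A ((Coalgebra.counit (R := k) (A := A)).rTensor A z)) := by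
    intro z
    induction z using TensorProduct.induction_on with
    | zero => simp
    | add p q hp hq => simp only [map_add, hp, hq]
    | tmul p q => simp [coe_apply, mul_comm]
  rw [hit_apply, key, Coalgebra.rTensor_counit_comul]
  simp

omit [Module.Finite k A] in
theorem pow_succ_apply (x : D k A) (n : ℕ) (a : A) : (x ^ (n + 1)) a = (x ^ n) (hit x.ofConv a) := by
  rw [pow_succ, hit_apply]
  refine (LinearMap.convMul_apply _ _ _).trans ?_
  induction Coalgebra.comul (R := k) a using TensorProduct.induction_on with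
  | zero => simp
  | add p q hp hq => simp only [map_add, hp, hq]
  | tmul p q => simp [coe_apply, mul_comm]

/-- the triangular values of the powers of a primitive element -/
theorem pow_apply_pow {x : D k A} (hx : IsPrim x) {a : A} (h0 : Coalgebra.counit (R := k) a = 0) (h1 : x a = 1) :
    ∀ (n m : ℕ) (b : A), n ≤ m → (x ^ n) (a ^ m * b) =
      if n = m then (n.factorial : k) * Coalgebra.counit (R := k) b else 0 := by
  intro n
  induction n with
  | zero =>
    intro m b _
    rw [pow_zero]
    show (1 : D k A) (a ^ m * b) = _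
    rw [LinearMap.convOne_apply]
    rcases Nat.eq_zero_or_pos m with rfl | hm
    · simp
    · rw [if_neg (by omega), Bialgebra.counit_mul, Bialgebra.counit_pow, h0, zero_pow (by omega), zero_mul, map_zero]
  | succ n ih =>
    intro m b hnm
    obtain ⟨m, rfl⟩ : ∃ j, m = j + 1 := ⟨m - 1, by omega⟩
    rw [pow_succ_apply, hit_mul hx, hit_pow hx, coe_apply, map_add, ← coe_apply, ← coe_apply, ih (m + 1) _ (by omega),
      if_neg (by omega), zero_add, show b * (m + 1 : ℕ) • (a ^ m * hit x.ofConv a) =
        (m + 1 : ℕ) • (a ^ m * (hit x.ofConv a * b)) by rw [nsmul_eq_mul, nsmul_eq_mul]; ring,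
      coe_apply, map_nsmul, ← coe_apply, ih m _ (by omega), Bialgebra.counit_mul, counit_hit, h1, _root_.one_mul]
    rcases eq_or_ne n m with rfl | hne
    · rw [if_pos rfl, if_pos rfl, nsmul_eq_mul, Nat.factorial_succ, Nat.cast_mul, mul_assoc]
    · rw [if_neg hne, if_neg (by omega), smul_zero]

theorem exists_eq_one {x : D k A} (hx : IsPrim x) (hx0 : x ≠ 0) :
    ∃ a, Coalgebra.counit (R := k) a = 0 ∧ x a = 1 := by
  obtain ⟨a, ha⟩ : ∃ a, x a ≠ 0 := by
    by_contra h
    push Not at h
    exact hx0 (WithConv.ext (LinearMap.ext h))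
  refine ⟨(x a)⁻¹ • (a - algebraMap k A (Coalgebra.counit (R := k) a)), by simp, ?_⟩
  show x.ofConv _ = 1
  rw [map_smul, map_sub, Algebra.algebraMap_eq_smul_one, map_smul, show x.ofConv 1 = 0 from hx.apply_one, smul_zero,
    sub_zero, smul_eq_mul]
  exact inv_mul_cancel₀ ha

variable (p : ℕ) [hp : Fact p.Prime]

theorem linearIndependent_pow {x : D k A} [CharP k p] (hx : IsPrim x) (hx0 : x ≠ 0) :
    LinearIndependent k fun i : Fin p => x ^ (i : ℕ) := by
  obtain ⟨a, h0, h1⟩ := exists_eq_one hx hx0
  classical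
  rw [Fintype.linearIndependent_iff]
  intro c hc
  by_contra h
  push Not at h
  let s := Finset.univ.filter fun i => c i ≠ 0
  have hs : s.Nonempty := let ⟨i, hi⟩ := h; ⟨i, Finset.mem_filter.mpr ⟨Finset.mem_univ _, hi⟩⟩
  let m := s.max' hs
  have hm : c m ≠ 0 := (Finset.mem_filter.mp (s.max'_mem hs)).2
  have hev := congrArg (fun z : D k A => z.ofConv (a ^ (m : ℕ))) hc
  simp only [WithConv.ofConv_sum, LinearMap.sum_apply, WithConv.ofConv_smul, LinearMap.smul_apply, smul_eq_mul,
    WithConv.ofConv_zero, LinearMap.zero_apply] at hev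
  rw [Finset.sum_eq_single m] at hev
  · have := pow_apply_pow hx h0 h1 (m : ℕ) m 1 le_rfl
    rw [if_pos rfl, Bialgebra.counit_one, _root_.mul_one, _root_.mul_one] at this
    rw [← coe_apply, this] at hev
    rcases mul_eq_zero.mp hev with h | h
    · exact hm h
    · rw [CharP.cast_eq_zero_iff k p, Nat.Prime.dvd_factorial hp.out] at h
      omega
  · intro i _ hi
    rcases lt_or_gt_of_ne hi with hlt | hgt
    · have := pow_apply_pow hx h0 h1 (i : ℕ) m 1 (Fin.le_def.mp hlt.le)
      rw [if_neg (fun e => hi (Fin.ext e)), _root_.mul_one] at this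
      rw [← coe_apply, this, mul_zero]
    · have : c i = 0 := by
        by_contra hci
        exact absurd (s.le_max' i (Finset.mem_filter.mpr ⟨Finset.mem_univ _, hci⟩)) (not_le.mpr hgt)
      rw [this, zero_mul]
  · exact fun h => absurd (Finset.mem_univ _) h

section Alpha

variable [CharP k p]

/-- the map `α_p^D → D A` of a primitive element with vanishing `p`-th power -/
def alphaMap {x : D k A} (hxp : x ^ p = 0) : AlphaP.A p k →ₐ[k] D k A :=
  { Ideal.Quotient.lift (Ideal.span {(Polynomial.X : Polynomial k) ^ p}) (Polynomial.aeval x).toRingHom (fun f hf => by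
      obtain ⟨q, rfl⟩ := Ideal.mem_span_singleton'.mp hf
      show Polynomial.aeval x (q * Polynomial.X ^ p) = 0
      rw [map_mul, map_pow, Polynomial.aeval_X, hxp, mul_zero]) with
    commutes' := fun r => Polynomial.aeval_C x r }

theorem alphaMap_x {x : D k A} (hxp : x ^ p = 0) : alphaMap p hxp (AlphaP.x p k) = x :=
  Polynomial.aeval_X x

theorem exists_bialgHom_alpha {x : D k A} (hx : IsPrim x) (hxp : x ^ p = 0) (hx0 : x ≠ 0) :
    ∃ g : AlphaP.A p k →ₐc[k] D k A, g (AlphaP.x p k) = x ∧ Function.Injective g := by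
  let g0 : AlphaP.A p k →ₐ[k] D k A := alphaMap p hxp
  have hg0 : g0 (AlphaP.x p k) = x := alphaMap_x p hxp
  let g : AlphaP.A p k →ₐc[k] D k A := BialgHom.ofAlgHom g0
    (AlphaP.algHom_ext (by
      show Coalgebra.counit (R := k) (g0 (AlphaP.x p k)) = Coalgebra.counit (R := k) (AlphaP.x p k)
      rw [hg0, AlphaP.counit_x, coalgebra_counit_apply, hx.apply_one]))
    (AlphaP.algHom_ext (by
      show Algebra.TensorProduct.map g0 g0 (Coalgebra.comul (R := k) (AlphaP.x p k)) =
        Coalgebra.comul (R := k) (g0 (AlphaP.x p k))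
      rw [AlphaP.comul_x, map_add, Algebra.TensorProduct.map_tmul, Algebra.TensorProduct.map_tmul, map_one, hg0]
      exact hx.symm))
  refine ⟨g, hg0, ?_⟩
  have hli : LinearIndependent k ((g : AlphaP.A p k →ₗ[k] D k A) ∘ (AlphaP.basis p k)) := by
    rw [show ((g : AlphaP.A p k →ₗ[k] D k A) ∘ (AlphaP.basis p k)) = fun i : Fin p => x ^ (i : ℕ) from funext fun i => by
      show g0 (AlphaP.basis p k i) = x ^ (i : ℕ)
      rw [AlphaP.basis_apply, map_pow, hg0]]
    exact linearIndependent_pow p hx hx0
  exact (by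
    intro y z h
    have := (Fintype.linearIndependent_iffₛ.mp hli) (fun i => (AlphaP.basis p k).repr y i)
      (fun i => (AlphaP.basis p k).repr z i) (by
        simp only [Function.comp_apply, ← map_smul, ← map_sum, Module.Basis.sum_repr]
        exact h)
    exact (AlphaP.basis p k).repr.injective (Finsupp.ext this))

theorem eval_bijective (R : Type u) [CommRing R] (B : Type v) [Ring B] [Bialgebra R B] [Module.Finite R B] [Module.Projective R B] :
    Function.Bijective (eval R B) := by
  refine ⟨fun a b h => ?_, fun w => ?_⟩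
  · refine (Module.bijective_dual_eval R B).1 (LinearMap.ext fun f => ?_)
    exact congrArg (fun z : D R (D R B) => z (WithConv.toConv f)) h
  · obtain ⟨a, ha⟩ := (Module.bijective_dual_eval R B).2 (w.ofConv ∘ₗ (toDual R B).symm.toLinearMap)
    refine ⟨a, WithConv.ext (LinearMap.ext fun y => ?_)⟩
    exact LinearMap.congr_fun ha y.ofConv

/-- `α_p` is self dual -/
theorem alpha_self_dual : ∃ h : AlphaP.A p k →ₐc[k] D k (AlphaP.A p k), Function.Bijective h := by
  let δ : D k (AlphaP.A p k) := WithConv.toConv ((AlphaP.basis p k).coord ⟨1, hp.out.one_lt⟩)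
  let b := AlphaP.basis p k
  have hδ : ∀ i : Fin p, δ (AlphaP.x p k ^ (i : ℕ)) = if (i : ℕ) = 1 then 1 else 0 := fun i => by
    rw [← AlphaP.basis_apply]
    show b.coord _ (b i) = _
    rw [Module.Basis.coord_apply, Module.Basis.repr_self, Finsupp.single_apply]
    simp [Fin.ext_iff]
  have hδ' : ∀ n : ℕ, δ (AlphaP.x p k ^ n) = if n = 1 then 1 else 0 := fun n => by
    rcases lt_or_ge n p with h | h
    · exact hδ ⟨n, h⟩
    · rw [AlphaP.x_pow_of_le p k h, if_neg (by have := hp.out.one_lt; omega)]
      exact map_zero δ.ofConv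
  have hεx : ∀ n : ℕ, Coalgebra.counit (R := k) (AlphaP.x p k ^ n) = if n = 0 then 1 else 0 := fun n => by
    rw [Bialgebra.counit_pow, AlphaP.counit_x, zero_pow_eq]
  have hprim : IsPrim δ := by
    rw [isPrim_iff]
    have h2 : δ.ofConv ∘ₗ LinearMap.mul' k (AlphaP.A p k) =
        LinearMap.mul' k k ∘ₗ (TensorProduct.map δ.ofConv Coalgebra.counit + TensorProduct.map Coalgebra.counit δ.ofConv) := by
      refine (b.tensorProduct b).ext fun ⟨i, j⟩ => ?_
      simp only [Module.Basis.tensorProduct_apply, LinearMap.comp_apply, LinearMap.mul'_apply, LinearMap.add_apply,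
        map_add, map_tmul, b, AlphaP.basis_apply, ← pow_add, ← coe_apply, hδ', hεx]
      rcases Nat.eq_zero_or_pos (i : ℕ) with hi | hi <;> rcases Nat.eq_zero_or_pos (j : ℕ) with hj | hj
      · simp [hi, hj]
      · simp [hi, (by omega : (j : ℕ) ≠ 0)]
      · simp [hj, (by omega : (i : ℕ) ≠ 0)]
      · have hi' : i ≠ (0 : Fin p) := fun h => by rw [h] at hi; simp at hi
        have hj' : j ≠ (0 : Fin p) := fun h => by rw [h] at hj; simp at hj
        simp [hi', hj']
        omega
    intro a c
    exact LinearMap.congr_fun h2 (a ⊗ₜ c)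
  have hx1 : δ (AlphaP.x p k) = 1 := by simpa using hδ' 1
  have hne : δ ≠ 0 := fun h => by
    rw [h] at hx1
    exact zero_ne_one hx1
  have hpow : δ ^ p = 0 := by
    refine WithConv.ext (b.ext fun i => ?_)
    have hkey : ∀ (n m : ℕ), m < n → (δ ^ n) (AlphaP.x p k ^ m) = 0 := by
      intro n
      induction n with
      | zero => intro m h; omega
      | succ n ih =>
        intro m hm
        rw [pow_succ_apply]
        have hhit : hit δ.ofConv (AlphaP.x p k) = 1 := by
          rw [hit_apply, AlphaP.comul_x, map_add, LinearMap.lTensor_tmul, LinearMap.lTensor_tmul, map_add, rid_tmul,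
            rid_tmul, show δ.ofConv 1 = 0 from hprim.apply_one, show δ.ofConv (AlphaP.x p k) = 1 from hx1]
          simp
        rcases Nat.eq_zero_or_pos m with rfl | hm0
        · have h := hit_mul hprim (1 : AlphaP.A p k) 1
          rw [_root_.mul_one, _root_.one_mul] at h
          rw [pow_zero, left_eq_add.mp h]
          exact map_zero (δ ^ n).ofConv
        · obtain ⟨m, rfl⟩ : ∃ j, m = j + 1 := ⟨m - 1, by omega⟩
          rw [hit_pow hprim, hhit, _root_.mul_one, coe_apply, map_nsmul, ← coe_apply, ih m (by omega), smul_zero]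
    show (δ ^ p) (b i) = 0
    simp only [b, AlphaP.basis_apply]
    exact hkey p i i.2
  obtain ⟨h, -, hinj⟩ := exists_bialgHom_alpha p hprim hpow hne
  refine ⟨h, hinj, ?_⟩
  have : Module.finrank k (AlphaP.A p k) = Module.finrank k (D k (AlphaP.A p k)) := by
    rw [(toDual k (AlphaP.A p k)).finrank_eq, Subspace.dual_finrank_eq]
  exact ((LinearMap.injective_iff_surjective_of_finrank_eq_finrank this
    (f := (h : AlphaP.A p k →ₗ[k] D k (AlphaP.A p k)))).mp hinj)

theorem exists_surjective_alpha {x : D k A} (hx : IsPrim x) (hxp : x ^ p = 0) (hx0 : x ≠ 0) :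
    ∃ f : A →ₐc[k] AlphaP.A p k, Function.Surjective f := by
  obtain ⟨g, -, hg⟩ := exists_bialgHom_alpha p hx hxp hx0
  obtain ⟨h, hh⟩ := alpha_self_dual (k := k) p
  let e := BialgEquiv.ofBijective h hh
  refine ⟨(e.symm : D k (AlphaP.A p k) →ₐc[k] AlphaP.A p k).comp ((transpose k g).comp (eval k A)), ?_⟩
  have hT : Function.Surjective (transpose k g) := by
    intro w
    obtain ⟨r, hr⟩ := (g : AlphaP.A p k →ₗ[k] D k A).exists_leftInverse_of_injective (LinearMap.ker_eq_bot.mpr hg)
    refine ⟨WithConv.toConv (w.ofConv ∘ₗ r), WithConv.ext (LinearMap.ext fun y => ?_)⟩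
    show w (r (g y)) = w y
    exact congrArg w.ofConv (LinearMap.congr_fun hr y)
  exact e.symm.surjective.comp (hT.comp (eval_bijective k A).2)

end Alpha

section Mu

variable [CharP k p]

/-- idempotents of an element fixed by Frobenius -/
theorem exists_idempotents {S : Type*} [Ring S] [Algebra k S] {x : S} (hxp : x ^ p = x) :
    ∃ P : ZMod p → Polynomial k, (∀ i, P i = 1 - (Polynomial.X - Polynomial.C (ZMod.castHom dvd_rfl k i)) ^ (p - 1)) ∧
      (∀ i, x * Polynomial.aeval x (P i) = ZMod.castHom dvd_rfl k i • Polynomial.aeval x (P i)) ∧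
      (∀ i j, Polynomial.aeval x (P i) * Polynomial.aeval x (P j) = if i = j then Polynomial.aeval x (P j) else 0) ∧
      ∑ i, Polynomial.aeval x (P i) = 1 := by
  let c : ZMod p →+* k := ZMod.castHom dvd_rfl k
  let P : ZMod p → Polynomial k := fun i => 1 - (Polynomial.X - Polynomial.C (c i)) ^ (p - 1)
  have hfrob : ∀ i, (x - algebraMap k S (c i)) ^ p = x - algebraMap k S (c i) := fun i => by
    have hz : ((p : ℕ) : S) = 0 := AlphaP.natCast_eq_zero p k S
    obtain ⟨r, hr⟩ := (Algebra.commute_algebraMap_right (-(c i)) x).exists_add_pow_prime_eq hp.out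
    rw [map_neg, ← sub_eq_add_neg, hz, zero_mul, zero_mul, zero_mul, add_zero, hxp] at hr
    rw [hr, ← map_neg, ← map_pow, ← map_neg c, ← map_pow c, ZMod.pow_card, map_neg, map_neg, ← sub_eq_add_neg]
  have hX : ∀ i, x * Polynomial.aeval x (P i) = c i • Polynomial.aeval x (P i) := fun i => by
    have h : (x - algebraMap k S (c i)) * Polynomial.aeval x (P i) = 0 := by
      simp only [P, map_sub, map_one, map_pow, Polynomial.aeval_X, Polynomial.aeval_C, mul_sub, _root_.mul_one]
      rw [← pow_succ', Nat.sub_add_cancel hp.out.one_le, hfrob, sub_self]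
    rwa [sub_mul, sub_eq_zero, ← Algebra.smul_def] at h
  have heval : ∀ i j, (P i).eval (c j) = if i = j then 1 else 0 := fun i j => by
    simp only [P, Polynomial.eval_sub, Polynomial.eval_one, Polynomial.eval_pow, Polynomial.eval_X, Polynomial.eval_C,
      ← map_sub, ← map_pow]
    rcases eq_or_ne i j with rfl | hne
    · rw [if_pos rfl, sub_self, zero_pow (by have := hp.out.two_le; omega), map_zero, sub_zero]
    · rw [if_neg hne, ZMod.pow_card_sub_one_eq_one (sub_ne_zero.mpr hne.symm), map_one, sub_self]
  have hQ : ∀ (Q : Polynomial k) j, Polynomial.aeval x Q * Polynomial.aeval x (P j) =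
      Q.eval (c j) • Polynomial.aeval x (P j) := fun Q j => by
    induction Q using Polynomial.induction_on with
    | C a => simp [Algebra.smul_def]
    | add q r hq hr => rw [map_add, add_mul, hq, hr, Polynomial.eval_add, add_smul]
    | monomial n a ih =>
      rw [pow_succ', ← mul_assoc, mul_comm (Polynomial.C a) Polynomial.X, mul_assoc, map_mul, Polynomial.aeval_X,
        mul_assoc, ih, mul_smul_comm, hX, smul_smul, Polynomial.eval_mul (p := Polynomial.X), Polynomial.eval_X,
        mul_comm]
  refine ⟨P, fun i => rfl, hX, fun i j => ?_, ?_⟩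
  · rw [hQ, heval]
    split_ifs <;> simp
  · have hsum : ∑ i, P i = 1 := by
      refine Polynomial.eq_of_natDegree_lt_card_of_eval_eq (ι := ZMod p) _ 1 (f := c) c.injective (fun j => ?_) ?_
      · simp [Polynomial.eval_finsetSum, heval]
      · rw [ZMod.card, Polynomial.natDegree_one, max_eq_left (Nat.zero_le _)]
        have hle : (∑ i, P i).natDegree ≤ p - 1 := by
          refine Polynomial.natDegree_sum_le_of_forall_le _ _ fun i _ => ?_
          refine (Polynomial.natDegree_sub_le _ _).trans ?_
          rw [Polynomial.natDegree_one]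
          exact max_le (Nat.zero_le _) ((Polynomial.natDegree_pow_le).trans (by rw [Polynomial.natDegree_X_sub_C, _root_.mul_one]))
        have := hp.out.two_le
        omega
    rw [← map_sum, hsum, map_one]

theorem aeval_prim_eq {S : Type*} [Ring S] [Algebra k S] (x : S) (P : ZMod p → Polynomial k)
    (hP : ∀ i, P i = 1 - (Polynomial.X - Polynomial.C (ZMod.castHom dvd_rfl k i)) ^ (p - 1))
    (hX : ∀ i, x * Polynomial.aeval x (P i) = ZMod.castHom dvd_rfl k i • Polynomial.aeval x (P i))
    (hsum : ∑ i, Polynomial.aeval x (P i) = 1) (i : ZMod p) :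
    Polynomial.aeval (x ⊗ₜ[k] (1 : S) + (1 : S) ⊗ₜ[k] x) (P i) =
      ∑ j, Polynomial.aeval x (P j) ⊗ₜ[k] Polynomial.aeval x (P (i - j)) := by
  classical
  let c : ZMod p →+* k := ZMod.castHom dvd_rfl k
  let e : ZMod p → S := fun i => Polynomial.aeval x (P i)
  set z : S ⊗[k] S := x ⊗ₜ[k] (1 : S) + (1 : S) ⊗ₜ[k] x with hz
  have hz2 : ∀ j l, z * (e j ⊗ₜ[k] e l) = c (j + l) • (e j ⊗ₜ[k] e l) := fun j l => by
    rw [hz, add_mul, Algebra.TensorProduct.tmul_mul_tmul, Algebra.TensorProduct.tmul_mul_tmul, _root_.one_mul,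
      _root_.one_mul, hX, hX, map_add, add_smul, TensorProduct.tmul_smul, ← TensorProduct.smul_tmul']
  have hz3 : ∀ (Q : Polynomial k) j l, Polynomial.aeval z Q * (e j ⊗ₜ[k] e l) =
      Q.eval (c (j + l)) • (e j ⊗ₜ[k] e l) := fun Q j l => by
    induction Q using Polynomial.induction_on with
    | C a => simp [Algebra.smul_def]
    | add q r hq hr => rw [map_add, add_mul, hq, hr, Polynomial.eval_add, add_smul]
    | monomial n a ih =>
      rw [pow_succ', ← mul_assoc, mul_comm (Polynomial.C a) Polynomial.X, mul_assoc, map_mul, Polynomial.aeval_X,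
        mul_assoc, ih, mul_smul_comm, hz2, smul_smul, Polynomial.eval_mul (p := Polynomial.X), Polynomial.eval_X,
        mul_comm]
  calc Polynomial.aeval z (P i) = Polynomial.aeval z (P i) * ((∑ j, e j) ⊗ₜ[k] (∑ l, e l)) := by
        rw [hsum, ← Algebra.TensorProduct.one_def, _root_.mul_one]
    _ = ∑ j, e j ⊗ₜ[k] e (i - j) := by
        rw [sum_tmul, Finset.mul_sum]
        refine Finset.sum_congr rfl fun j _ => ?_
        rw [tmul_sum, Finset.mul_sum, Finset.sum_eq_single (i - j)]
        · rw [hz3, hP, add_sub_cancel]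
          simp [zero_pow (by have := hp.out.two_le; omega : p - 1 ≠ 0), c]
        · intro l _ hl
          rw [hz3, hP]
          simp only [Polynomial.eval_sub, Polynomial.eval_one, Polynomial.eval_pow, Polynomial.eval_X,
            Polynomial.eval_C]
          rw [show ZMod.castHom dvd_rfl k i = c i from rfl, ← map_sub, ← map_pow,
            ZMod.pow_card_sub_one_eq_one (sub_ne_zero.mpr fun h => hl (by rw [← h, add_sub_cancel_left])),
            map_one, sub_self, zero_smul]
        · exact fun h => absurd (Finset.mem_univ _) h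

theorem exists_surjective_mu {x : D k A} (hx : IsPrim x) (hxp : x ^ p = x) (hx0 : x ≠ 0) :
    ∃ f : A →ₐc[k] MonoidAlgebra k (Multiplicative (ZMod p)), Function.Surjective f := by
  classical
  obtain ⟨P, hP, hX, hmul, hsum⟩ := exists_idempotents (k := k) p hxp
  let c : ZMod p →+* k := ZMod.castHom dvd_rfl k
  let e : ZMod p → D k A := fun i => Polynomial.aeval x (P i)
  have hcounit : ∀ i, (e i) 1 = if i = 0 then 1 else 0 := fun i => by
    show Bialgebra.counitAlgHom k (D k A) (Polynomial.aeval x (P i)) = _
    rw [← Polynomial.aeval_algHom_apply, show Bialgebra.counitAlgHom k (D k A) x = 0 from hx.apply_one, hP,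
      map_sub, map_one, map_pow, map_sub, Polynomial.aeval_X, Polynomial.aeval_C, zero_sub,
      Algebra.algebraMap_self_apply, ← map_neg, ← map_pow]
    rcases eq_or_ne i 0 with rfl | hi
    · rw [if_pos rfl, neg_zero, zero_pow (by have := hp.out.two_le; omega), map_zero, sub_zero]
    · rw [if_neg hi, ZMod.pow_card_sub_one_eq_one (neg_ne_zero.mpr hi), map_one, sub_self]
  have hΔ : ∀ i, Coalgebra.comul (R := k) (e i) = ∑ j, e j ⊗ₜ[k] e (i - j) := fun i => by
    refine Eq.trans ?_ (aeval_prim_eq (k := k) p x P hP hX hsum i)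
    show Bialgebra.comulAlgHom k (D k A) (Polynomial.aeval x (P i)) = _
    rw [← Polynomial.aeval_algHom_apply]
    exact congrArg (fun w => Polynomial.aeval w (P i)) hx
  let G := Multiplicative (ZMod p)
  let f0 : A →ₗ[k] MonoidAlgebra k G :=
    ∑ i, (LinearMap.toSpanSingleton k _ (MonoidAlgebra.single (Multiplicative.ofAdd i) (1 : k))) ∘ₗ (e i).ofConv
  have hf0 : ∀ a, f0 a = ∑ i, MonoidAlgebra.single (Multiplicative.ofAdd i) ((e i) a) := fun a => by
    simp [f0, coe_apply]
  have hone : f0 1 = 1 := by
    rw [hf0, Finset.sum_eq_single (0 : ZMod p) (fun i _ hi => by rw [hcounit, if_neg hi, MonoidAlgebra.single_zero])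
      (fun h => absurd (Finset.mem_univ _) h), hcounit, if_pos rfl]
    rfl
  have hmulf : ∀ a b, f0 (a * b) = f0 a * f0 b := fun a b => by
    have he : ∀ i, (e i) (a * b) = ∑ j, (e j) a * (e (i - j)) b := fun i => by
      rw [← ev₂_coalgebra_comul_tmul, hΔ, map_sum, LinearMap.sum_apply]
      exact Finset.sum_congr rfl fun j _ => ev₂_tmul k A _ _ _ _
    rw [hf0, hf0, hf0, Finset.sum_mul_sum, Finset.sum_comm]
    simp only [he, MonoidAlgebra.single_mul_single, ← ofAdd_add]
    rw [Finset.sum_comm]
    conv_lhs => enter [2, i]; rw [← MonoidAlgebra.singleAddHom_apply, map_sum]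
    rw [Finset.sum_comm]
    refine Finset.sum_congr rfl fun j _ => ?_
    rw [← Equiv.sum_comp (Equiv.addLeft j)]
    simp
  let f1 : A →ₐ[k] MonoidAlgebra k G := AlgHom.ofLinearMap f0 hone hmulf
  let f : A →ₐc[k] MonoidAlgebra k G := BialgHom.ofAlgHom f1
    (AlgHom.ext fun a => by
      show Coalgebra.counit (R := k) (f0 a) = Coalgebra.counit (R := k) a
      rw [hf0, map_sum]
      simp only [MonoidAlgebra.counit_single, CommSemiring.counit_apply]
      have h := congrArg (fun w : D k A => w.ofConv a) hsum
      simp only [WithConv.ofConv_sum, LinearMap.sum_apply] at h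
      exact h.trans (LinearMap.convOne_apply a))
    (AlgHom.ext fun a => by
      show Algebra.TensorProduct.map f1 f1 (Coalgebra.comul (R := k) a) = Coalgebra.comul (R := k) (f0 a)
      have h1 : ∀ w : A ⊗[k] A, Algebra.TensorProduct.map f1 f1 w = ∑ i, ∑ j,
          LinearMap.mul' k k (TensorProduct.map (e i).ofConv (e j).ofConv w) •
            (MonoidAlgebra.single (Multiplicative.ofAdd i) (1 : k) ⊗ₜ[k] MonoidAlgebra.single (Multiplicative.ofAdd j) (1 : k)) := by
        intro w
        induction w using TensorProduct.induction_on with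
        | zero => simp
        | add q r hq hr => simp only [map_add, hq, hr, add_smul, Finset.sum_add_distrib]
        | tmul q r =>
          show f0 q ⊗ₜ f0 r = _
          rw [hf0, hf0, sum_tmul]
          refine Finset.sum_congr rfl fun i _ => ?_
          rw [tmul_sum]
          refine Finset.sum_congr rfl fun j _ => ?_
          rw [map_tmul, LinearMap.mul'_apply, TensorProduct.smul_tmul', MonoidAlgebra.smul_single, smul_eq_mul,
            _root_.mul_one]
          conv_lhs => rw [← _root_.mul_one ((e j) r), ← smul_eq_mul, ← MonoidAlgebra.smul_single, TensorProduct.tmul_smul,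
            TensorProduct.smul_tmul', MonoidAlgebra.smul_single, smul_eq_mul, mul_comm]
      rw [h1, hf0, map_sum]
      refine Finset.sum_congr rfl fun i _ => ?_
      rw [Finset.sum_eq_single i]
      · rw [← LinearMap.convMul_apply, hmul, if_pos rfl]
        conv_rhs => rw [← _root_.mul_one ((e i) a), ← smul_eq_mul, ← MonoidAlgebra.smul_single, map_smul]
        refine congrArg₂ (fun (r : k) (w : MonoidAlgebra k (Multiplicative (ZMod p)) ⊗[k] MonoidAlgebra k (Multiplicative (ZMod p))) => r • w) rfl ?_
        simp [MonoidAlgebra.comul_single, Algebra.TensorProduct.one_def]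
      · intro j _ hj
        rw [← LinearMap.convMul_apply, hmul, if_neg (Ne.symm hj)]
        simp
      · exact fun h => absurd (Finset.mem_univ _) h)
  refine ⟨f, ?_⟩
  have hTi : ∀ i, e i ≠ 0 → MonoidAlgebra.single (Multiplicative.ofAdd i) (1 : k) ∈ f1.range := by
    intro i hi
    obtain ⟨a, ha⟩ : ∃ a, (e i) a ≠ 0 := by
      by_contra h
      push Not at h
      exact hi (WithConv.ext (LinearMap.ext h))
    refine ⟨((e i) a)⁻¹ • hit (e i).ofConv a, ?_⟩
    show f0 _ = _
    have hj : ∀ j, (e j) (hit (e i).ofConv a) = (e j * e i) a := fun j => by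
      refine Eq.trans ?_ (LinearMap.convMul_apply _ _ _).symm
      rw [hit_apply]
      induction Coalgebra.comul (R := k) a using TensorProduct.induction_on with
      | zero => simp
      | add q r hq hr => simp only [map_add, coe_apply] at hq hr ⊢; rw [hq, hr]
      | tmul q r => simp [coe_apply, mul_comm]
    rw [map_smul, hf0, Finset.sum_eq_single i]
    · rw [hj, hmul, if_pos rfl, MonoidAlgebra.smul_single, smul_eq_mul, inv_mul_cancel₀ ha]
    · intro j _ hji
      rw [hj, hmul, if_neg hji, coe_apply, WithConv.ofConv_zero, LinearMap.zero_apply, MonoidAlgebra.single_zero]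
    · exact fun h => absurd (Finset.mem_univ _) h
  obtain ⟨i, hi0, hi⟩ : ∃ i, i ≠ 0 ∧ e i ≠ 0 := by
    by_contra h
    push Not at h
    refine hx0 ?_
    rw [← _root_.mul_one x, ← hsum, Finset.mul_sum]
    refine Finset.sum_eq_zero fun i _ => ?_
    rw [hX]
    rcases eq_or_ne i 0 with rfl | hi
    · rw [map_zero, zero_smul]
    · rw [show Polynomial.aeval x (P i) = 0 from h i hi, smul_zero]
  have hall : ∀ g : G, MonoidAlgebra.single g (1 : k) ∈ f1.range := by
    intro g
    obtain ⟨n, hn⟩ : ∃ n : ℕ, Multiplicative.toAdd g = n • i := ⟨((Multiplicative.toAdd g) * i⁻¹).val, by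
      rw [nsmul_eq_mul, ZMod.natCast_zmod_val, inv_mul_cancel_right₀ hi0]⟩
    have h := f1.range.pow_mem (hTi i hi) n
    rwa [MonoidAlgebra.single_pow, one_pow, ← ofAdd_nsmul, ← hn, ofAdd_toAdd] at h
  intro w
  induction w using MonoidAlgebra.induction_linear with
  | zero => exact ⟨0, map_zero _⟩
  | single g r =>
    obtain ⟨a, ha⟩ := hall g
    exact ⟨r • a, by rw [map_smul]; erw [ha]; rw [MonoidAlgebra.smul_single, smul_eq_mul, _root_.mul_one]⟩
  | add q r hq hr =>
    obtain ⟨a, rfl⟩ := hq; obtain ⟨b, rfl⟩ := hr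
    exact ⟨a + b, map_add _ _ _⟩

end Mu

end Groth.L15.RankP
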